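import Mathlib.RingTheory.SimpleModule.WedderburnArtin
import Mathlib.RingTheory.Jacobson.Radical
import Mathlib.RingTheory.Artinian.Module
import Mathlib.Algebra.Module.Projective
import Mathlib.Algebra.Module.Torsion.Basic
import Mathlib.Data.Fintype.EquivFin
import Mathlib.LinearAlgebra.Pi

/-!
Finitely generated projective modules over strongly local rings (the quotient by the Jacobson
radical is simple Artinian) are determined by their endomorphism rings.
-/

set_option autoImplicit false
set_option linter.style.haveILetI false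
set_option backward.isDefEq.respectTransparency false
set_option backward.isDefEq.respectTransparency.types false

universe u v

namespace Groth.Agent.StrLocalLib

/-- Two finitely generated modules over a simple Artinian ring are comparable by surjections. -/
lemma exists_surjective_or {R : Type u} [Ring R] [IsSimpleRing R] [IsArtinianRing R] {M N : Type v}
    [AddCommGroup M] [Module R M] [Module.Finite R M] [AddCommGroup N] [Module R N] [Module.Finite R N] :
    (∃ f : M →ₗ[R] N, Function.Surjective f) ∨ ∃ g : N →ₗ[R] M, Function.Surjective g := by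
  rcases subsingleton_or_nontrivial M with hM | hM
  · exact Or.inr ⟨0, fun x => ⟨0, Subsingleton.elim _ _⟩⟩
  obtain ⟨S, hS⟩ := IsAtomic.exists_atom (Submodule R M)
  haveI := isSimpleModule_iff_isAtom.2 hS
  haveI : IsSimpleModule R ↥(S.map (LinearMap.inl R M N)) :=
    IsSimpleModule.congr (S.equivMapOfInjective _ LinearMap.inl_injective).symm
  have h := IsSimpleRing.isIsotypic R (M × N) (S.map (LinearMap.inl R M N))
  obtain ⟨a, ⟨ea⟩⟩ := (h.of_injective (LinearMap.inl R M N) LinearMap.inl_injective).linearEquiv_fun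
  obtain ⟨b, ⟨eb⟩⟩ := (h.of_injective (LinearMap.inr R M N) LinearMap.inr_injective).linearEquiv_fun
  rcases le_total b a with hab | hab
  · exact Or.inl ⟨eb.symm.toLinearMap ∘ₗ LinearMap.funLeft R _ (Fin.castLE hab) ∘ₗ ea.toLinearMap,
      eb.symm.surjective.comp ((LinearMap.funLeft_surjective_of_injective R _ _
        (Fin.castLE_injective hab)).comp ea.surjective)⟩
  · exact Or.inr ⟨ea.symm.toLinearMap ∘ₗ LinearMap.funLeft R _ (Fin.castLE hab) ∘ₗ eb.toLinearMap,
      ea.symm.surjective.comp ((LinearMap.funLeft_surjective_of_injective R _ _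
        (Fin.castLE_injective hab)).comp eb.surjective)⟩

variable {A : Type u} [Ring A]

/-- The reduction of a module modulo the Jacobson radical of the ring. -/
abbrev Red (A : Type u) [Ring A] (P : Type v) [AddCommGroup P] [Module A P] : Type v :=
  P ⧸ (Ring.jacobson A • (⊤ : Submodule A P))

variable {P Q : Type v} [AddCommGroup P] [Module A P] [AddCommGroup Q] [Module A Q]

lemma red_smul (a : A) (x : Red A P) : Ideal.Quotient.mk (Ring.jacobson A) a • x = a • x := rfl

/-- Reduction as a semilinear map. -/
def redMap (A : Type u) [Ring A] (P : Type v) [AddCommGroup P] [Module A P] :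
    P →ₛₗ[Ideal.Quotient.mk (Ring.jacobson A)] Red A P where
  toFun := Submodule.Quotient.mk
  map_add' _ _ := rfl
  map_smul' _ _ := rfl

instance red_finite [Module.Finite A P] : Module.Finite (A ⧸ Ring.jacobson A) (Red A P) :=
  haveI : RingHomSurjective (Ideal.Quotient.mk (Ring.jacobson A)) := ⟨Ideal.Quotient.mk_surjective⟩
  Module.Finite.of_surjective (redMap A P) (Submodule.mkQ_surjective _)

lemma map_jacobson_smul_top (f : P →ₗ[A] Q) {x : P} (hx : x ∈ Ring.jacobson A • (⊤ : Submodule A P)) :
    f x ∈ Ring.jacobson A • LinearMap.range f := by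
  have h := Submodule.mem_map_of_mem (f := f) hx
  rwa [Submodule.map_smul'', Submodule.map_top] at h

/-- A map which is surjective modulo the Jacobson radical is surjective. -/
lemma surjective_of_red [Module.Finite A Q] (π : P →ₗ[A] Q)
    (h : ∀ q : Q, ∃ p : P, q - π p ∈ Ring.jacobson A • (⊤ : Submodule A Q)) : Function.Surjective π := by
  rw [← LinearMap.range_eq_top]
  have hbot : (⊤ : Submodule A (Q ⧸ LinearMap.range π)) = ⊥ := by
    refine Submodule.FG.eq_bot_of_le_jacobson_smul Module.Finite.fg_top fun y _ => ?_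
    obtain ⟨q, rfl⟩ := Submodule.mkQ_surjective _ y
    obtain ⟨p, hp⟩ := h q
    have h' := map_jacobson_smul_top (LinearMap.range π).mkQ hp
    rw [map_sub, Submodule.range_mkQ,
      show (LinearMap.range π).mkQ (π p) = 0 from
        (Submodule.Quotient.mk_eq_zero _).2 (LinearMap.mem_range_self π p), sub_zero] at h'
    exact h'
  refine eq_top_iff.2 fun q _ => ?_
  rw [← Submodule.Quotient.mk_eq_zero, ← Submodule.mem_bot A, ← hbot]
  trivial

/-- An idempotent endomorphism with image inside `J • ⊤` vanishes on a finite module. -/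
lemma idem_eq_zero [Module.Finite A Q] (f : Module.End A Q) (hf : f * f = f)
    (h : ∀ x, f x ∈ Ring.jacobson A • (⊤ : Submodule A Q)) : f = 0 := by
  have hbot : LinearMap.range f = ⊥ := by
    refine Submodule.FG.eq_bot_of_le_jacobson_smul ?_ ?_
    · rw [← Submodule.map_top]; exact Module.Finite.fg_top.map f
    · rintro _ ⟨x, rfl⟩
      have h' := map_jacobson_smul_top f (h x)
      rwa [show f (f x) = f x from LinearMap.congr_fun hf x] at h'
  exact LinearMap.range_eq_bot.1 hbot

lemma conj_injective (π : Q →ₗ[A] P) (s : P →ₗ[A] Q) (hs : π ∘ₗ s = LinearMap.id)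
    (x y : Module.End A P) (h : s ∘ₗ x ∘ₗ π = s ∘ₗ y ∘ₗ π) : x = y := by
  ext p
  have hs' : ∀ q, π (s q) = q := fun q => LinearMap.congr_fun hs q
  have h' := congrArg π (LinearMap.congr_fun h (s p))
  simpa [hs'] using h'

/-- A surjection between finite modules, `P` projective, with isomorphic endomorphism rings is
injective, when the reduction of the source is Artinian. -/
lemma injective_of_ringEquiv_end [Module.Finite A Q] [IsArtinianRing (A ⧸ Ring.jacobson A)]
    [Module.Projective A P] (π : Q →ₗ[A] P) (hπ : Function.Surjective π)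
    (e : Module.End A P ≃+* Module.End A Q) : Function.Injective π := by
  obtain ⟨s, hs⟩ := π.exists_rightInverse_of_surjective (LinearMap.range_eq_top.2 hπ)
  have hs' : ∀ p, π (s p) = p := fun p => LinearMap.congr_fun hs p
  let ψ : Module.End A Q → Module.End A Q := fun x => s ∘ₗ (e.symm x : Module.End A P) ∘ₗ π
  have hψmul : ∀ x y, ψ (x * y) = ψ x * ψ y := by
    intro x y
    refine LinearMap.ext fun q => ?_
    simp [ψ, hs']
  have hψinj : Function.Injective ψ := fun x y h => e.symm.injective (conj_injective π s hs _ _ h)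
  let ε : ℕ → Module.End A Q := fun n => ψ^[n] 1
  have hε0 : ε 0 = 1 := rfl
  have hεsucc : ∀ n, ε (n + 1) = ψ (ε n) := fun n => Function.iterate_succ_apply' ψ n 1
  have hidem : ∀ n, ε n * ε n = ε n := by
    intro n
    induction n with
    | zero => rw [hε0, one_mul]
    | succ n ih => rw [hεsucc, ← hψmul, ih]
  have hle : ∀ n, ε n * ε (n + 1) = ε (n + 1) ∧ ε (n + 1) * ε n = ε (n + 1) := by
    intro n
    induction n with
    | zero => rw [hε0, one_mul, mul_one]; exact ⟨rfl, rfl⟩
    | succ n ih =>
      have a1 := congrArg ψ ih.1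
      have a2 := congrArg ψ ih.2
      rw [hψmul, ← hεsucc, ← hεsucc] at a1 a2
      exact ⟨a1, a2⟩
  haveI : RingHomSurjective (Ideal.Quotient.mk (Ring.jacobson A)) := ⟨Ideal.Quotient.mk_surjective⟩
  let Rg : ℕ → Submodule (A ⧸ Ring.jacobson A) (Red A Q) :=
    fun n => (LinearMap.range (ε n)).map (redMap A Q)
  have hanti : Antitone Rg := antitone_nat_of_succ_le fun n => by
    refine Submodule.map_mono ?_
    rintro _ ⟨x, rfl⟩
    exact ⟨ε (n + 1) x, by rw [← Module.End.mul_apply, (hle n).1]⟩
  obtain ⟨n, hn⟩ := IsArtinian.monotone_stabilizes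
    (⟨fun k => OrderDual.toDual (Rg k), hanti⟩ : ℕ →o (Submodule (A ⧸ Ring.jacobson A) (Red A Q))ᵒᵈ)
  have heq : Rg n = Rg (n + 1) := congrArg OrderDual.ofDual (hn (n + 1) (Nat.le_succ n))
  have hf : ε n - ε (n + 1) = 0 := by
    refine idem_eq_zero _ ?_ fun x => ?_
    · rw [sub_mul, mul_sub, mul_sub, hidem, hidem, (hle n).1, (hle n).2, sub_self, sub_zero]
    · obtain ⟨_, ⟨y, rfl⟩, hy⟩ : redMap A Q (ε n x) ∈ Rg (n + 1) :=
        heq ▸ Submodule.mem_map_of_mem (LinearMap.mem_range_self (ε n) x)
      have hy' : ε n x - ε (n + 1) y ∈ Ring.jacobson A • (⊤ : Submodule A Q) :=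
        (Submodule.Quotient.eq _).1 hy.symm
      have h' : ((1 : Module.End A Q) - ε (n + 1)) (ε n x - ε (n + 1) y) ∈
          Ring.jacobson A • (⊤ : Submodule A Q) :=
        Submodule.smul_mono le_rfl le_top (map_jacobson_smul_top _ hy')
      have e1 : ((1 : Module.End A Q) - ε (n + 1)) (ε n x - ε (n + 1) y) =
          (ε n - ε (n + 1)) x := by
        have a1 : ε (n + 1) (ε n x) = ε (n + 1) x := LinearMap.congr_fun (hle n).2 x
        have a2 : ε (n + 1) (ε (n + 1) y) = ε (n + 1) y := LinearMap.congr_fun (hidem (n + 1)) y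
        simp only [LinearMap.sub_apply, Module.End.one_apply, map_sub, a1, a2]
        abel
      rwa [e1] at h'
  have hdesc : ∀ k, ε k = ε (k + 1) → ε 0 = ε 1 := by
    intro k
    induction k with
    | zero => exact id
    | succ k ih => exact fun h => ih (hψinj (by rw [← hεsucc, ← hεsucc]; exact h))
  have h01 : ψ 1 = 1 := by
    rw [← hε0, ← hεsucc, ← hdesc n (sub_eq_zero.1 hf)]
  intro x y hxy
  have hx : ∀ z, s (π z) = z := fun z => by
    have := LinearMap.congr_fun h01 z
    simpa [ψ] using this
  rw [← hx x, ← hx y, hxy]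

/-- A surjection of reductions lifts to a surjection. -/
lemma exists_lift_surjective [Module.Projective A P] [Module.Finite A Q]
    (f : Red A P →ₗ[A ⧸ Ring.jacobson A] Red A Q) (hf : Function.Surjective f) :
    ∃ π : P →ₗ[A] Q, Function.Surjective π := by
  let g : P →ₗ[A] Red A Q :=
    { toFun := fun p => f (Submodule.Quotient.mk p)
      map_add' := fun x y => by rw [Submodule.Quotient.mk_add, map_add]
      map_smul' := fun a x => by
        show f (Submodule.Quotient.mk (a • x)) = a • f (Submodule.Quotient.mk x)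
        rw [Submodule.Quotient.mk_smul, ← red_smul, map_smul, red_smul] }
  obtain ⟨π, hπ⟩ := Module.projective_lifting_property (Submodule.mkQ _) g (Submodule.mkQ_surjective _)
  refine ⟨π, surjective_of_red π fun q => ?_⟩
  obtain ⟨y, hy⟩ := hf (Submodule.Quotient.mk q)
  obtain ⟨p, rfl⟩ := Submodule.Quotient.mk_surjective _ y
  exact ⟨p, (Submodule.Quotient.eq _).1 (hy.symm.trans (LinearMap.congr_fun hπ p).symm)⟩

/-- Finitely generated projectives over a strongly local ring with isomorphic endomorphism rings
are isomorphic. -/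
theorem nonempty_linearEquiv_of_end [IsSimpleRing (A ⧸ Ring.jacobson A)]
    [IsArtinianRing (A ⧸ Ring.jacobson A)] [Module.Finite A P] [Module.Projective A P]
    [Module.Finite A Q] [Module.Projective A Q]
    (e : Module.End A P ≃+* Module.End A Q) : Nonempty (P ≃ₗ[A] Q) := by
  rcases exists_surjective_or (R := A ⧸ Ring.jacobson A) (M := Red A P) (N := Red A Q) with
    ⟨f, hf⟩ | ⟨f, hf⟩
  · obtain ⟨π, hπ⟩ := exists_lift_surjective f hf
    exact ⟨LinearEquiv.ofBijective π ⟨injective_of_ringEquiv_end π hπ e.symm, hπ⟩⟩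
  · obtain ⟨π, hπ⟩ := exists_lift_surjective f hf
    exact ⟨(LinearEquiv.ofBijective π ⟨injective_of_ringEquiv_end π hπ e, hπ⟩).symm⟩

end Groth.Agent.StrLocalLib
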